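import Mathlib

set_option linter.unusedSectionVars false
set_option linter.style.haveILetI false

/-!
# Descent of "essentially of finite type" along a local inclusion into an essentially étale algebra

`A → D ⊆ E` local homomorphisms of Noetherian local rings, `E` flat, formally unramified and essentially
of finite type over `A`, and `m D` the maximal ideal of `D`. Then `D` is essentially of finite type over `A`.
-/

universe u

open TensorProduct IsLocalRing

namespace Groth.Agent.EssEtDesc5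

/-- If `R → E` is surjective with `E` flat over `A`, then `ker ⊓ I R ≤ (I R) * ker`. -/
theorem ker_inf_map_le {A R E : Type u} [CommRing A] [CommRing R] [CommRing E] [Algebra A R]
    [Algebra A E] [Module.Flat A E] (φ : R →ₐ[A] E) (hφ : Function.Surjective φ) (I : Ideal A)
    (hI : I.FG) :
    RingHom.ker φ ⊓ I.map (algebraMap A R) ≤ I.map (algebraMap A R) * RingHom.ker φ := by
  rintro x ⟨hxK, hxI⟩
  let fR : I ⊗[A] R →ₗ[A] R := TensorProduct.lift ((LinearMap.lsmul A R).comp I.subtype)
  let fE : I ⊗[A] E →ₗ[A] E := TensorProduct.lift ((LinearMap.lsmul A E).comp I.subtype)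
  have hfE : Function.Injective fE := Module.Flat.iff_lift_lsmul_comp_subtype_injective.1 ‹_› hI
  obtain ⟨z, hz⟩ : ∃ z, fR z = x := by
    have hx' : x ∈ I • (⊤ : Submodule A R) := by rw [Ideal.smul_top_eq_map]; exact hxI
    refine Submodule.smul_induction_on (p := fun y => ∃ z, fR z = y) hx' (fun a ha r _ => ⟨(⟨a, ha⟩ : I) ⊗ₜ r, ?_⟩) ?_
    · simp [fR]
    · rintro a b ⟨za, rfl⟩ ⟨zb, rfl⟩
      exact ⟨za + zb, map_add _ _ _⟩
  have hcomm : fE.comp (φ.toLinearMap.lTensor I) = φ.toLinearMap.comp fR := by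
    refine TensorProduct.ext' fun a r => ?_
    simp [fR, fE]
  have hz0 : φ.toLinearMap.lTensor I z = 0 := by
    apply hfE
    have := LinearMap.congr_fun hcomm z
    rw [LinearMap.comp_apply, LinearMap.comp_apply, hz] at this
    rw [map_zero, this]
    exact hxK
  have hex := lTensor_exact I (LinearMap.exact_subtype_ker_map φ.toLinearMap) hφ
  obtain ⟨w, rfl⟩ := (hex z).1 hz0
  subst hz
  clear hz0 hxK hxI hcomm
  induction w using TensorProduct.induction_on with
  | zero => simp
  | tmul a k =>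
    simp only [fR, LinearMap.lTensor_tmul, TensorProduct.lift.tmul, LinearMap.comp_apply,
      Submodule.subtype_apply, LinearMap.lsmul_apply, Algebra.smul_def]
    exact Ideal.mul_mem_mul (Ideal.mem_map_of_mem _ a.2) k.2
  | add u v hu hv => rw [map_add, map_add]; exact add_mem hu hv

section

variable {A D E : Type u} [CommRing A] [IsLocalRing A] [IsNoetherianRing A]
  [CommRing D] [IsLocalRing D] [IsNoetherianRing D] [CommRing E] [IsLocalRing E]
  [Algebra A D] [Algebra A E] [Algebra D E] [IsScalarTower A D E]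

/-- Multiplication `D ⊗[A] E → E`. -/
noncomputable def μ : D ⊗[A] E →ₐ[D] E :=
  Algebra.TensorProduct.lift (Algebra.ofId D E) (AlgHom.id A E) fun _ _ => Commute.all _ _

theorem μ_tmul (d : D) (e : E) : μ (d ⊗ₜ[A] e) = algebraMap D E d * e := by
  simp [μ, Algebra.ofId_apply]

/-- The elements `d ⊗ 1 - 1 ⊗ d`. -/
noncomputable def δ (d : D) : D ⊗[A] E := d ⊗ₜ[A] (1 : E) - (1 : D) ⊗ₜ[A] algebraMap D E d

theorem ker_μ_eq : RingHom.ker (μ (A := A) (D := D) (E := E)) = Ideal.span (Set.range (δ (A := A) (E := E))) := by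
  refine le_antisymm (fun x hx => ?_) ?_
  · have key : x - (1 : D) ⊗ₜ[A] μ x ∈ Ideal.span (Set.range (δ (A := A) (E := E))) := by
      clear hx
      induction x using TensorProduct.induction_on with
      | zero => simp
      | tmul d e =>
        have : d ⊗ₜ[A] e - (1 : D) ⊗ₜ[A] μ (d ⊗ₜ[A] e) = δ d * ((1 : D) ⊗ₜ[A] e) := by
          rw [μ_tmul, δ, sub_mul, Algebra.TensorProduct.tmul_mul_tmul, Algebra.TensorProduct.tmul_mul_tmul,
            one_mul, mul_one, one_mul]
        rw [this]
        exact Ideal.mul_mem_right _ _ (Ideal.subset_span ⟨d, rfl⟩)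
      | add u v hu hv =>
        rw [map_add, tmul_add, add_sub_add_comm]
        exact add_mem hu hv
    rwa [RingHom.mem_ker.1 hx, tmul_zero, sub_zero] at key
  · rw [Ideal.span_le]
    rintro _ ⟨d, rfl⟩
    simp [δ, μ_tmul, map_sub]

variable [IsLocalHom (algebraMap A E)] [IsLocalHom (algebraMap D E)] [Module.Flat A E]
  [Algebra.EssFiniteType A E] [Algebra.FormallyUnramified A E]

omit [IsLocalHom (algebraMap A E)] in
theorem exists_killer (hm : (maximalIdeal A).map (algebraMap A D) = maximalIdeal D) :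
    ∃ s : D ⊗[A] E, IsUnit (μ s) ∧ ∀ x ∈ RingHom.ker (μ (A := A) (D := D) (E := E)), s * x = 0 := by
  classical
  let p : Ideal (D ⊗[A] E) := (maximalIdeal E).comap (μ (A := A) (D := D) (E := E))
  haveI : p.IsPrime := Ideal.comap_isPrime _ _
  haveI : IsNoetherianRing (D ⊗[A] E) := Algebra.EssFiniteType.isNoetherianRing D _
  let R := Localization.AtPrime p
  haveI : IsNoetherianRing R := IsLocalization.isNoetherianRing p.primeCompl R inferInstance
  haveI : Algebra.EssFiniteType (D ⊗[A] E) R := Algebra.EssFiniteType.of_isLocalization R p.primeCompl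
  haveI : Algebra.EssFiniteType D R := Algebra.EssFiniteType.comp D (D ⊗[A] E) R
  haveI : Algebra.FormallyUnramified (D ⊗[A] E) R := Algebra.FormallyUnramified.of_isLocalization p.primeCompl
  haveI : Algebra.FormallyUnramified D R := Algebra.FormallyUnramified.comp D (D ⊗[A] E) R
  haveI : IsLocalHom (algebraMap D R) := by
    refine ((local_hom_TFAE (algebraMap D R)).out 0 4).mpr ?_
    have h1 : (maximalIdeal R).comap (algebraMap (D ⊗[A] E) R) = p :=
      IsLocalization.AtPrime.under_maximalIdeal R p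
    rw [IsScalarTower.algebraMap_eq D (D ⊗[A] E) R, ← Ideal.comap_comap, h1]
    have : (μ (A := A) (D := D) (E := E)).toRingHom.comp (algebraMap D (D ⊗[A] E)) = algebraMap D E :=
      (μ (A := A) (D := D) (E := E)).comp_algebraMap
    exact (congrArg (fun f => Ideal.comap f (maximalIdeal E)) this).trans
      (((local_hom_TFAE (algebraMap D E)).out 0 4).mp ‹_›)
  have hmR : (maximalIdeal A).map (algebraMap A R) = maximalIdeal R := by
    rw [IsScalarTower.algebraMap_eq A D R, ← Ideal.map_map, hm]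
    exact Algebra.FormallyUnramified.map_maximalIdeal
  have hunit : ∀ y : p.primeCompl, IsUnit ((μ (A := A) (D := D) (E := E)).restrictScalars A (y : D ⊗[A] E)) := by
    intro y
    by_contra h
    exact y.2 ((IsLocalRing.mem_maximalIdeal _).2 h)
  let φ : R →ₐ[A] E := IsLocalization.liftAlgHom (M := p.primeCompl)
    (f := (μ (A := A) (D := D) (E := E)).restrictScalars A) hunit
  have hφ : ∀ x, φ (algebraMap (D ⊗[A] E) R x) = μ x := fun x => by
    simp [φ, IsLocalization.liftAlgHom_apply, IsLocalization.lift_eq]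
  have hsurj : Function.Surjective φ := fun e =>
    ⟨algebraMap _ R ((1 : D) ⊗ₜ[A] e), by rw [hφ, μ_tmul, map_one, one_mul]⟩
  have hle : RingHom.ker φ ≤ maximalIdeal R := le_maximalIdeal (RingHom.ker_ne_top _)
  have hK : RingHom.ker φ = ⊥ := by
    refine Submodule.eq_bot_of_le_smul_of_le_jacobson_bot (maximalIdeal R) _
      (IsNoetherian.noetherian _) ?_ (maximalIdeal_le_jacobson _)
    intro x hx
    have := ker_inf_map_le φ hsurj (maximalIdeal A) (IsNoetherian.noetherian _) ⟨hx, by rw [hmR]; exact hle hx⟩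
    rwa [hmR] at this
  obtain ⟨G, hG⟩ : (RingHom.ker (μ (A := A) (D := D) (E := E))).FG := IsNoetherian.noetherian _
  have hkill : ∀ g : G, ∃ s : p.primeCompl, (s : D ⊗[A] E) * g = 0 := by
    rintro ⟨g, hg⟩
    refine (IsLocalization.map_eq_zero_iff p.primeCompl R g).1 ?_
    rw [← Ideal.mem_bot, ← hK, RingHom.mem_ker, hφ]
    exact RingHom.mem_ker.1 (hG ▸ Ideal.subset_span hg)
  choose s hs using hkill
  refine ⟨((∏ g : G, s g : p.primeCompl) : D ⊗[A] E), hunit _, fun x hx => ?_⟩
  rw [← hG] at hx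
  induction hx using Submodule.span_induction with
  | mem g hg =>
    obtain ⟨c, hc⟩ := Finset.dvd_prod_of_mem s (Finset.mem_univ ⟨g, hg⟩)
    rw [hc, Submonoid.coe_mul, mul_comm (s ⟨g, hg⟩ : D ⊗[A] E), mul_assoc, hs ⟨g, hg⟩, mul_zero]
  | zero => exact mul_zero _
  | add u v _ _ hu hv => rw [mul_add, hu, hv, add_zero]
  | smul a u _ hu => rw [smul_eq_mul, mul_left_comm, hu, mul_zero]

end

/-- The subalgebra of `D` of fractions `a / b` with `a, b` in `C₀` and `b` a unit of `D`. -/
def fracSub {A D : Type u} [CommRing A] [CommRing D] [Algebra A D] (C₀ : Subalgebra A D) :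
    Subalgebra A D where
  carrier := {x | ∃ a ∈ C₀, ∃ b ∈ C₀, IsUnit b ∧ b * x = a}
  mul_mem' := by
    rintro x y ⟨a, ha, b, hb, hu, h⟩ ⟨a', ha', b', hb', hu', h'⟩
    exact ⟨a * a', mul_mem ha ha', b * b', mul_mem hb hb', hu.mul hu', by rw [← h, ← h']; ring⟩
  add_mem' := by
    rintro x y ⟨a, ha, b, hb, hu, h⟩ ⟨a', ha', b', hb', hu', h'⟩
    exact ⟨b' * a + b * a', add_mem (mul_mem hb' ha) (mul_mem hb ha'), b * b', mul_mem hb hb', hu.mul hu',
      by rw [← h, ← h']; ring⟩
  algebraMap_mem' r := ⟨algebraMap A D r, C₀.algebraMap_mem r, 1, C₀.one_mem, isUnit_one, one_mul _⟩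

theorem le_fracSub {A D : Type u} [CommRing A] [CommRing D] [Algebra A D] (C₀ : Subalgebra A D) :
    C₀ ≤ fracSub C₀ := fun x hx => ⟨x, hx, 1, C₀.one_mem, isUnit_one, one_mul x⟩

theorem isLocalHom_fracSub {A D : Type u} [CommRing A] [CommRing D] [Algebra A D] (C₀ : Subalgebra A D) :
    IsLocalHom (fracSub C₀).val.toRingHom := by
  refine ⟨fun x hx => ?_⟩
  obtain ⟨a, ha, b, hb, hu, h⟩ := x.2
  obtain ⟨u, hu'⟩ := hx
  have hxu : IsUnit (x : D) := ⟨u, hu'⟩
  have ha' : IsUnit a := h ▸ hu.mul hxu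
  have hy : ((u⁻¹ : Dˣ) : D) ∈ fracSub C₀ :=
    ⟨b, hb, a, ha, ha', by rw [← h, mul_assoc, show (x : D) = (u : D) from hu'.symm, Units.mul_inv, mul_one]⟩
  exact IsUnit.of_mul_eq_one (⟨_, hy⟩ : fracSub C₀) (Subtype.ext (show (x : D) * ((u⁻¹ : Dˣ) : D) = 1 by
    rw [show (x : D) = (u : D) from hu'.symm, Units.mul_inv]))

theorem isLocalization_fracSub {A D : Type u} [CommRing A] [CommRing D] [Algebra A D] (C₀ : Subalgebra A D) :
    letI : Algebra C₀ (fracSub C₀) := (Subalgebra.inclusion (le_fracSub C₀)).toRingHom.toAlgebra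
    IsLocalization ((IsUnit.submonoid D).comap C₀.val) (fracSub C₀) := by
  letI : Algebra C₀ (fracSub C₀) := (Subalgebra.inclusion (le_fracSub C₀)).toRingHom.toAlgebra
  refine (isLocalization_iff _ _).2 ⟨fun y => ?_, fun z => ?_, fun {x y} h => ⟨1, ?_⟩⟩
  · haveI := isLocalHom_fracSub C₀
    exact isUnit_of_map_unit (fracSub C₀).val.toRingHom _ y.2
  · obtain ⟨a, ha, b, hb, hu, h⟩ := z.2
    exact ⟨⟨⟨a, ha⟩, ⟨⟨b, hb⟩, hu⟩⟩, Subtype.ext (show (z : D) * b = a by rw [mul_comm, h])⟩
  · have : (x : D) = y := congrArg (fun z : fracSub C₀ => (z : D)) h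
    rw [Subtype.ext this]

theorem essFiniteType_fracSub {A D : Type u} [CommRing A] [CommRing D] [Algebra A D] (C₀ : Subalgebra A D)
    (hfg : C₀.FG) : Algebra.EssFiniteType A (fracSub C₀) := by
  letI : Algebra C₀ (fracSub C₀) := (Subalgebra.inclusion (le_fracSub C₀)).toRingHom.toAlgebra
  haveI : IsScalarTower A C₀ (fracSub C₀) := .of_algebraMap_eq fun r => rfl
  haveI : Algebra.FiniteType A C₀ := (Subalgebra.fg_iff_finiteType C₀).1 hfg
  haveI := isLocalization_fracSub C₀
  haveI : Algebra.EssFiniteType C₀ (fracSub C₀) :=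
    Algebra.EssFiniteType.of_isLocalization _ ((IsUnit.submonoid D).comap C₀.val)
  exact Algebra.EssFiniteType.comp A C₀ (fracSub C₀)

section

variable {A D E : Type u} [CommRing A] [IsLocalRing A] [IsNoetherianRing A]
  [CommRing D] [IsLocalRing D] [IsNoetherianRing D] [CommRing E] [IsLocalRing E]
  [Algebra A D] [Algebra A E] [Algebra D E] [IsScalarTower A D E]
  [IsLocalHom (algebraMap A E)] [IsLocalHom (algebraMap D E)] [Module.Flat A E]
  [Algebra.EssFiniteType A E] [Algebra.FormallyUnramified A E]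

omit [IsLocalHom (algebraMap A E)] in
theorem essFiniteType_of_injective (hinj : Function.Injective (algebraMap D E))
    (hm : (maximalIdeal A).map (algebraMap A D) = maximalIdeal D) : Algebra.EssFiniteType A D := by
  classical
  obtain ⟨s, hs, hskill⟩ := exists_killer (A := A) (D := D) (E := E) hm
  haveI : IsNoetherianRing (D ⊗[A] E) := Algebra.EssFiniteType.isNoetherianRing D _
  have hfgk : (Submodule.span (D ⊗[A] E) (Set.range (δ (A := A) (D := D) (E := E)))).FG :=
    IsNoetherian.noetherian _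
  obtain ⟨G, hG, hGspan⟩ := (Submodule.fg_span_iff_fg_span_finset_subset _).1 hfgk
  choose pre hpre using fun g : G => hG g.2
  obtain ⟨T, hT⟩ := TensorProduct.exists_finset s
  let gens : Finset D := (Finset.univ.image pre) ∪ T.image Prod.fst
  let C₀ := Algebra.adjoin A (gens : Set D)
  let C := fracSub C₀
  have hmem : ∀ g ∈ gens, g ∈ C := fun g hg => le_fracSub C₀ (Algebra.subset_adjoin hg)
  haveI : IsLocalHom C.val.toRingHom := isLocalHom_fracSub C₀
  haveI : IsLocalRing C := RingHom.domain_isLocalRing C.val.toRingHom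
  haveI : IsLocalHom (algebraMap C E) :=
    show IsLocalHom ((algebraMap D E).comp C.val.toRingHom) from inferInstance
  let ι : C ⊗[A] E →ₐ[A] D ⊗[A] E := Algebra.TensorProduct.map C.val (AlgHom.id A E)
  have hι : Function.Injective ι := by
    have h : ι.toLinearMap = C.val.toLinearMap.rTensor E := TensorProduct.ext' fun c e => rfl
    have h' := Module.Flat.rTensor_preserves_injective_linearMap (M := E) C.val.toLinearMap
      Subtype.coe_injective
    rw [← h] at h'
    exact h'
  let ν : C ⊗[A] E →ₐ[C] E :=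
    Algebra.TensorProduct.lift (Algebra.ofId C E) (AlgHom.id A E) fun _ _ => Commute.all _ _
  have hνι : ∀ x, μ (ι x) = ν x := by
    intro x
    induction x using TensorProduct.induction_on with
    | zero => simp
    | tmul c e => simp [ι, ν, μ_tmul, Algebra.ofId_apply]; rfl
    | add u v hu hv => simp only [map_add, hu, hv]
  let s' : C ⊗[A] E := ∑ i ∈ T.attach,
    (⟨i.1.1, hmem _ (Finset.mem_union_right _ (Finset.mem_image_of_mem _ i.2))⟩ : C) ⊗ₜ[A] i.1.2
  have hs' : ι s' = s := by
    rw [hT, map_sum]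
    exact (Finset.sum_congr rfl fun i _ => rfl).trans (Finset.sum_attach T fun i => i.1 ⊗ₜ[A] i.2)
  letI : Algebra (C ⊗[A] E) E := ν.toRingHom.toAlgebra
  haveI : IsScalarTower C (C ⊗[A] E) E := .of_algebraMap_eq fun c => (ν.commutes c).symm
  haveI : IsLocalization (Submonoid.powers s') E := by
    refine (isLocalization_iff _ _).2 ⟨?_, fun z => ?_, fun {x y} h => ?_⟩
    · rintro ⟨_, n, rfl⟩
      show IsUnit (ν (s' ^ n))
      rw [map_pow, ← hνι, hs']
      exact hs.pow n
    · exact ⟨⟨(1 : C) ⊗ₜ[A] z, 1⟩, by simp [RingHom.algebraMap_toAlgebra, ν]⟩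
    · refine ⟨⟨s', 1, pow_one s'⟩, hι ?_⟩
      have hxy : ν x = ν y := h
      show ι (s' * x) = ι (s' * y)
      rw [← sub_eq_zero, ← map_sub, ← mul_sub, map_mul, hs']
      refine hskill _ ?_
      rw [RingHom.mem_ker, hνι, map_sub, hxy, sub_self]
  haveI : Module.Flat (C ⊗[A] E) E := IsLocalization.flat E (Submonoid.powers s')
  haveI : Module.Flat C E := Module.Flat.trans C (C ⊗[A] E) E
  haveI : Module.FaithfullyFlat C E := Module.FaithfullyFlat.of_flat_of_isLocalHom
  let θ : D ⊗[A] E →ₐ[A] E ⊗[C] E := Algebra.TensorProduct.productMap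
    ((Algebra.TensorProduct.includeLeft : E →ₐ[A] E ⊗[C] E).comp (IsScalarTower.toAlgHom A D E))
    ((Algebra.TensorProduct.includeRight : E →ₐ[C] E ⊗[C] E).restrictScalars A)
  have hθδ : ∀ d, θ (δ d) = algebraMap D E d ⊗ₜ[C] (1 : E) - (1 : E) ⊗ₜ[C] algebraMap D E d := by
    intro d
    simp [θ, δ, map_sub, IsScalarTower.coe_toAlgHom']
  have hker : ∀ d, θ (δ d) = 0 := by
    intro d
    have hd : δ d ∈ Submodule.span (D ⊗[A] E) (G : Set (D ⊗[A] E)) := hGspan ▸ Submodule.subset_span ⟨d, rfl⟩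
    refine (Submodule.span_le (p := RingHom.ker θ)).2 (fun g hg => ?_) hd
    have hg' : δ (pre ⟨g, hg⟩) = g := hpre ⟨g, hg⟩
    rw [SetLike.mem_coe, RingHom.mem_ker, ← hg', hθδ]
    have hc : algebraMap D E (pre ⟨g, hg⟩) = algebraMap C E ⟨pre ⟨g, hg⟩,
        hmem _ (Finset.mem_union_left _ (Finset.mem_image_of_mem _ (Finset.mem_univ _)))⟩ := rfl
    rw [hc, Algebra.algebraMap_eq_smul_one, TensorProduct.smul_tmul, sub_self]
  have htop : C = ⊤ := by
    refine eq_top_iff.2 fun d _ => ?_
    let N : Submodule C E := LinearMap.range (Algebra.linearMap C E)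
    have h0 : (1 : E) ⊗ₜ[C] N.mkQ (algebraMap D E d) = 0 := by
      have h := congrArg (LinearMap.lTensor E N.mkQ) (sub_eq_zero.1 ((hθδ d).symm.trans (hker d)))
      rw [LinearMap.lTensor_tmul, LinearMap.lTensor_tmul] at h
      rw [← h, show N.mkQ 1 = 0 from (Submodule.Quotient.mk_eq_zero N).2 ⟨1, (algebraMap C E).map_one⟩, tmul_zero]
    have h1 : N.mkQ (algebraMap D E d) = 0 :=
      Module.FaithfullyFlat.tensorProduct_mk_injective (A := C) (B := E) (E ⧸ N)
        (show TensorProduct.mk C E (E ⧸ N) 1 _ = TensorProduct.mk C E (E ⧸ N) 1 0 by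
          rw [map_zero]; exact h0)
    obtain ⟨c, hc⟩ := (Submodule.Quotient.mk_eq_zero N).1 h1
    have : (c : D) = d := hinj hc
    exact this ▸ c.2
  haveI : Algebra.EssFiniteType A C := essFiniteType_fracSub C₀ ⟨gens, rfl⟩
  exact Algebra.EssFiniteType.of_surjective C.val fun d => ⟨⟨d, htop ▸ Algebra.mem_top⟩, rfl⟩

end

end Groth.Agent.EssEtDesc5
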